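/-
Certificate data of a coset enumeration.
-/
import Cfsg.Agent.Lib.HeldRecog.P15.Data

set_option autoImplicit false
set_option maxRecDepth 1000000

namespace CfsgLib.HeldRecog.P15

open CfsgLib.CosetEnum

/-- Justifications of the facts from 8000. -/
def just2 : List ℕ := [0x1ed001f050020000001c000022, 0x1f0601f100020000006a000022, 0x1f4001ed60020000001c000022, 0x1f4201f0a01f410030000001c000022, 0x1f4301f060020000001c000022, 0x1f3f01f0d01f2000300000008000022, 0x1f3801f0e00200000009000022, 0x1f3601f1100200000029000022, 0x1f3d01f1200200000030000022, 0x1ef001f140020000000a000022, 0x1f3a01f180020000000c000022, 0x1f1901f440020000000e000022, 0x1f46000be00200000009000022, 0x1f4b01f430020000000e000022, 0x1f1b01f3900200000042000022, 0x1f4e01f3900200000042000022, 0x1f1d01f4700200000018000022, 0x1f5001f4700200000018000022, 0x1f2401f3700200000004000022, 0x1f3001f4800200000026000022]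

theorem just2_ok : data.okChunk 8000 just2 = true := by decide +kernel

theorem just2_len : just2.length = 20 := by decide +kernel

end CfsgLib.HeldRecog.P15
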