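/-
Certificate data of a coset enumeration.
-/
import Cfsg.Agent.Lib.HeldRecog.P15.Data

set_option autoImplicit false
set_option maxRecDepth 1000000

namespace CfsgLib.HeldRecog.P15

open CfsgLib.CosetEnum

/-- Completion of the rows from 0. -/
def rows0 : List (List ℕ) := [[0x1, 0x1001, 0x2001, 0x3001, 0x4001], [0x5001, 0x6001, 0x7001, 0xb900008002, 0x4001], [0x5001, 0xcb00009002, 0xcd0000a002, 0xb001, 0xc001], [0xd001, 0x6001, 0xe001, 0x10001, 0x1f4500011002], [0x12001, 0xf001, 0x7001, 0xb700013002, 0x1f5200015002], [0x1f001, 0xc800020002, 0xd00001e002, 0xb001, 0x1f3e00021002], [0x1f3400022002, 0x1f4b00023002, 0x1f4a00024002, 0x1f3b00025002, 0xc001], [0xd001, 0xcf00026002, 0x6f00027002, 0xb400028002, 0x1f4900029002], [0xba0002a002, 0xf001, 0xe001, 0x1f460002b002, 0x1ef10002d002], [0x2e001, 0x2f001, 0x1f460002c002, 0x10001, 0x1ef200030002], [0x12001, 0x1f4c00035002, 0xc200036002, 0xc000037002, 0x1f5300038002], [0x1f001, 0xd30004d002, 0xd50004e002, 0x4f001, 0x1f5100051002],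 [0x2e001, 0xd600087002, 0xd800088002, 0xc600089002, 0x1f4d0008a002], [0xb10008b002, 0x2f001, 0xc100081002, 0xc30008c002, 0xc50008f002], [0xaf00050002, 0xd1001, 0xd4001, 0x4f001, 0x1f4f000e8002]]

theorem rows0_ok : okRows data table 8020 0 rows0 = true := by decide +kernel

theorem rows0_len : rows0.length = 15 := by decide +kernel

end CfsgLib.HeldRecog.P15
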